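import Cfsg.Agent.H121.Cyc.Prime
import Cfsg.Agent.H417.DegMTwentyTwo
import Cfsg.Agent.H417.DegMEleven
import Cfsg.Agent.SporadicA.MathieuRecog
import Cfsg.Agent.SporadicA.Co0Mono
import Cfsg.Agent.SporadicA.Co0Basic
import Cfsg.Agent.Schreier.MEleven
import Cfsg.Prelude.Def_Spor_Conway
import Cfsg.Agent.Prune
set_option linter.all false
prune_inst 0x7f00000000000000000000000000000000000000000000000000000000000000000000000000000000000000000000000000000000000000000000000000000000000000000000000000000000000000003fffffffffffffffffffffffffffbeffbdffffffff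
open scoped Cfsg.Agent.FastGrp

/-!
# Minimal degrees of the Mathieu groups and of `Co2`, `Co3`, `McL`, `HS` (S2351)

`M11` has minimal degree 10, `M22` 21; the other groups contain one of them.
-/

set_option autoImplicit false
set_option linter.unusedSectionVars false

namespace Cfsg.Agent.H121.Cyc

open Module Subgroup Cfsg Cfsg.Agent.H122
open Cfsg.Agent.Characters.Core

universe u

theorem not_comm_of_card {G : Type*} [Group G] [Finite G] [IsSimpleGroup G] (h : ¬ (Nat.card G).Prime) :
    ¬ IsMulCommutative G := by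
  intro hc
  apply h
  let _ : CommGroup G := { (inferInstance : Group G) with mul_comm := hc.is_comm.comm }
  exact IsSimpleGroup.prime_card

/-- a bound from the list of degrees -/
theorem minDeg_of_degrees {G : Type*} [Group G] [Finite G] (hG : commutator G = ⊤) {b : ℕ}
    (h : ∀ χ : IrrCharacter G, charDegree (χ : G → ℂ) = 1 ∨ b ≤ charDegree (χ : G → ℂ)) : MinDeg G b := by
  refine minDeg_of_fin hG fun k ρ hρ hk => ?_
  have h1 : charDegree ρ.character = k := by
    unfold charDegree
    rw [apply_one_fin, Complex.natCast_re, Nat.floor_natCast]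
  rcases h ⟨ρ.character, ⟨k, ρ, hρ, rfl⟩⟩ with h2 | h2
  · change charDegree ρ.character = 1 at h2
    omega
  · change b ≤ charDegree ρ.character at h2
    omega

theorem minDeg_m22 {G : Type u} [Group G] [Finite G] (h : Cfsg.IsM22 G) : MinDeg G 21 := by
  have := h.1
  have hna : ¬ IsMulCommutative G := not_comm_of_card (by rw [h.2]; norm_num)
  refine minDeg_of_degrees (commutator_top hna) fun χ => ?_
  obtain ⟨f, hf⟩ := Cfsg.Agent.H417.DegMTwentyTwo.exists_enum h
  have h1 := hf (f.symm χ)
  rw [Equiv.apply_symm_apply] at h1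
  rw [h1]
  have h2 : ∀ i : Fin 12, Cfsg.Agent.M22.DegreesEnd.LB.getD i 0 = 1 ∨ 21 ≤ Cfsg.Agent.M22.DegreesEnd.LB.getD i 0 := by
    decide
  exact h2 _

theorem minDeg_m11 {G : Type u} [Group G] [Finite G] (h : Cfsg.IsM11 G) : MinDeg G 10 := by
  have := h.1
  have hna : ¬ IsMulCommutative G := not_comm_of_card (by rw [h.2]; norm_num)
  refine minDeg_of_degrees (commutator_top hna) fun χ => ?_
  have h1 := Cfsg.Agent.H417.DegMEleven.degrees h (d := charDegree (χ : G → ℂ)) ⟨χ, rfl⟩
  simp only [List.mem_cons, List.not_mem_nil, or_false] at h1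
  omega

theorem isM22 : Cfsg.IsM22 Spor.M22 :=
  ⟨Cfsg.Agent.SporadicA.MathieuRecog.simple_M22, Cfsg.Agent.SporadicA.MathieuRecog.card_M22⟩

instance finite_perm : Finite (Equiv.Perm GolayPt) := inferInstance

theorem m22' : MinDeg Spor.M22 21 := minDeg_m22 isM22

theorem isM11 : Cfsg.IsM11 Spor.M11 := by
  have h := Cfsg.Agent.Schreier.MEleven.isM11
  refine ⟨?_, ?_⟩
  · have := h.1
    exact (Cfsg.Agent.Schreier.MEleven.equiv).symm.isSimpleGroup
  · rw [← h.2]
    exact Nat.card_congr (Cfsg.Agent.Schreier.MEleven.equiv).symm.toEquiv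

theorem m11' : MinDeg Spor.M11 10 := minDeg_m11 isM11

/-- an injective homomorphism from a group with nontrivial elements -/
theorem of_inj {H G : Type*} [Group H] [Group G] [IsSimpleGroup G] [Nontrivial H] {b : ℕ} (h : MinDeg H b) (f : H →* G)
    (hf : Function.Injective f) : MinDeg G b := by
  obtain ⟨x, hx⟩ := exists_ne (1 : H)
  exact MinDeg.of_hom h f ⟨x, fun h1 => hx (hf (by rw [h1, map_one]))⟩

instance nontrivial_m22 : Nontrivial Spor.M22 := by
  rw [← Finite.one_lt_card_iff_nontrivial, isM22.2]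
  norm_num

instance nontrivial_m11 : Nontrivial Spor.M11 := by
  rw [← Finite.one_lt_card_iff_nontrivial, isM11.2]
  norm_num

theorem M22_le24 : Spor.M22 ≤ M24 := fun _ h => h.1.1

theorem m11 {G : Type*} [Group G] [IsSimpleGroup G] (h : Spor.IsoM11 G) : MinDeg G 10 := by
  obtain ⟨e⟩ := h
  exact m11'.congr e.symm

theorem m12 {G : Type*} [Group G] [IsSimpleGroup G] (h : Spor.IsoM12 G) : MinDeg G 10 := by
  obtain ⟨e⟩ := h
  exact of_inj m11' (e.symm.toMonoidHom.comp (Subgroup.inclusion (inf_le_left : Spor.M11 ≤ Spor.M12)))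
    (e.symm.injective.comp (Subgroup.inclusion_injective _))

theorem m22 {G : Type*} [Group G] [IsSimpleGroup G] (h : Spor.IsoM22 G) : MinDeg G 21 := by
  obtain ⟨e⟩ := h
  exact m22'.congr e.symm

theorem m23 {G : Type*} [Group G] [IsSimpleGroup G] (h : Spor.IsoM23 G) : MinDeg G 21 := by
  obtain ⟨e⟩ := h
  exact of_inj m22' (e.symm.toMonoidHom.comp (Subgroup.inclusion (inf_le_left : Spor.M22 ≤ Spor.M23)))
    (e.symm.injective.comp (Subgroup.inclusion_injective _))

theorem m24 {G : Type*} [Group G] [IsSimpleGroup G] (h : Spor.IsoM24 G) : MinDeg G 21 := by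
  obtain ⟨e⟩ := h
  exact of_inj m22' (e.symm.toMonoidHom.comp (Subgroup.inclusion M22_le24))
    (e.symm.injective.comp (Subgroup.inclusion_injective _))

/-! ### The Leech lattice -/

open Cfsg.Agent.SporadicA in
theorem permCo0_injective : Function.Injective Co0Mono.permCo0 := by
  rw [injective_iff_map_eq_one]
  intro σ hσ
  apply Subtype.ext
  apply Equiv.ext
  intro i
  have h1 : (Co0Mono.permCo0 σ) • Co0Basic.e8 i = Co0Basic.e8 i := by rw [hσ, one_smul]
  have h2 := congrArg (fun v : leechLattice => (v : GolayPt → ℤ) ((σ : Equiv.Perm GolayPt) i)) h1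
  rw [Co0Mono.permCo0_smul, Co0Mono.permMap_apply, Equiv.symm_apply_apply, Co0Basic.e8_apply,
    Co0Basic.e8_apply] at h2
  by_contra hne
  have hne' : ¬ (σ : Equiv.Perm GolayPt) i = i := hne
  rw [if_pos rfl, if_neg hne'] at h2
  norm_num at h2

/-- `M22` as a group of permutations of the Leech lattice -/
def fL : Spor.M22 →* Equiv.Perm leechLattice :=
  Co0.subtype.comp (Cfsg.Agent.SporadicA.Co0Mono.permCo0.comp (Subgroup.inclusion M22_le24))

theorem fL_injective : Function.Injective fL :=
  Co0.subtype_injective.comp (permCo0_injective.comp (Subgroup.inclusion_injective _))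

theorem fL_apply (g : Spor.M22) (v : leechLattice) (p : GolayPt) :
    ((fL g v : leechLattice) : GolayPt → ℤ) p = (v : GolayPt → ℤ) ((g : Equiv.Perm GolayPt).symm p) := rfl

theorem fL_mem (g : Spor.M22) : fL g ∈ Co0 := (Cfsg.Agent.SporadicA.Co0Mono.permCo0 _).2

theorem symm_none (g : Spor.M22) (p : GolayPt) : (g : Equiv.Perm GolayPt).symm p = none ↔ p = none := by
  have h : (g : Equiv.Perm GolayPt) none = none := g.2.1.2
  rw [Equiv.symm_apply_eq, h]

theorem symm_zero (g : Spor.M22) (p : GolayPt) : (g : Equiv.Perm GolayPt).symm p = some 0 ↔ p = some 0 := by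
  have h : (g : Equiv.Perm GolayPt) (some 0) = some 0 := g.2.2
  rw [Equiv.symm_apply_eq, h]

theorem fL_U (g : Spor.M22) : fL g Spor.leechU = Spor.leechU := by
  apply Subtype.ext
  funext p
  rw [fL_apply]
  show Spor.vecU _ = Spor.vecU _
  unfold Spor.vecU
  simp only [symm_none, symm_zero]

theorem fL_V (g : Spor.M22) : fL g Spor.leechV = Spor.leechV := by
  apply Subtype.ext
  funext p
  rw [fL_apply]
  show Spor.vecV _ = Spor.vecV _
  unfold Spor.vecV
  simp only [symm_none]

theorem fL_U' (g : Spor.M22) : fL g Spor.leechU' = Spor.leechU' := by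
  apply Subtype.ext
  funext p
  rw [fL_apply]
  show Spor.vecU' _ = Spor.vecU' _
  unfold Spor.vecU'
  simp only [symm_none, symm_zero]

theorem of_leech {G : Type*} [Group G] [IsSimpleGroup G] {K : Subgroup (Equiv.Perm leechLattice)} (e : G ≃* K)
    (h : ∀ g : Spor.M22, fL g ∈ K) : MinDeg G 21 :=
  of_inj m22' (e.symm.toMonoidHom.comp (fL.codRestrict K h)) (e.symm.injective.comp fun a b hab =>
    fL_injective (a₁ := a) (a₂ := b) (congrArg (fun z : ↥K => (z : Equiv.Perm leechLattice)) hab))

theorem co2 {G : Type*} [Group G] [IsSimpleGroup G] (h : Spor.IsoCo2 G) : MinDeg G 21 := by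
  obtain ⟨e⟩ := h
  exact of_leech e fun g => ⟨fL_mem g, fL_U g⟩

theorem co3 {G : Type*} [Group G] [IsSimpleGroup G] (h : Spor.IsoCo3 G) : MinDeg G 21 := by
  obtain ⟨e⟩ := h
  exact of_leech e fun g => ⟨fL_mem g, fL_V g⟩

theorem mcl {G : Type*} [Group G] [IsSimpleGroup G] (h : Spor.IsoMcL G) : MinDeg G 21 := by
  obtain ⟨e⟩ := h
  exact of_leech e fun g => ⟨⟨fL_mem g, fL_V g⟩, fL_U g⟩

theorem hs {G : Type*} [Group G] [IsSimpleGroup G] (h : Spor.IsoHS G) : MinDeg G 21 := by
  obtain ⟨e⟩ := h
  exact of_leech e fun g => ⟨⟨fL_mem g, fL_V g⟩, fL_U' g⟩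

end Cfsg.Agent.H121.Cyc
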