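import Cfsg.Agent.H121.Cyc.Prime
import Cfsg.Agent.SporRec.LyG2.G14
import Cfsg.Agent.SporRec.LyG2.LyEmb
import Cfsg.Agent.S2338
import Cfsg.Agent.Prune
set_option linter.all false
prune_inst 0x7f00000000000000000000000000000000000000000000000000000000000000000000000000000000000000000000000000000000000000000000000000000000000000000000000000000000000000003fffffffffffffffffffffffffffbeffbdffffffff
open scoped Cfsg.Agent.FastGrp

/-!
# The Lyons group: every nontrivial complex representation has degree at least 124 (S2351)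

`G₂(5) ≤ Ly`.
-/

set_option autoImplicit false
set_option linter.unusedSectionVars false

namespace Cfsg.Agent.H121.Cyc.SLy

open Module Cfsg Cfsg.Agent.H122 Cfsg.Agent.SporRec.LyG2

private theorem not_comm_q {G : Type} [Group G] [IsSimpleGroup G] (h : ¬ (Nat.card G).Prime) : ¬ IsMulCommutative G := by
  intro hcm
  let _ : CommGroup G := { (inferInstance : Group G) with mul_comm := hcm.is_comm.comm }
  exact h IsSimpleGroup.prime_card

theorem minDeg_h : MinDeg ↥(Cfsg.Lie.chevG2.group (ZMod 5)) 124 := by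
  have hf : Fact (Nat.Prime 5) := ⟨Nat.prime_five⟩
  have hs : IsSimpleGroup ↥(Cfsg.Lie.chevG2.group (ZMod 5)) := by
    have := LyEmb.isSimpleGroup_H
    exact MulEquiv.isSimpleGroup (LyEmb.equivH.symm.trans G14.equivChev).symm
  have hc : Nat.card ↥(Cfsg.Lie.chevG2.group (ZMod 5)) = 5859000000 := by
    rw [← Nat.card_congr (LyEmb.equivH.symm.trans G14.equivChev).toEquiv]
    exact LyEmb.card_H
  have hfin : Finite ↥(Cfsg.Lie.chevG2.group (ZMod 5)) := Nat.finite_of_card_ne_zero (by rw [hc]; norm_num)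
  have hna := not_comm_q (G := ↥(Cfsg.Lie.chevG2.group (ZMod 5))) (by rw [hc]; norm_num)
  refine minDeg_of_fin (commutator_top hna) fun k ρ hρ hk => ?_
  have h1 := (S2338.result k ρ hρ hk).2.1 (by rw [ZMod.card]) (by rw [ZMod.card]; norm_num)
  rw [ZMod.card] at h1
  exact h1

theorem ly {G : Type*} [Group G] [IsSimpleGroup G] (h : Spor.IsoLy G) : MinDeg G 124 := by
  obtain ⟨e⟩ := h
  let f : ↥(Cfsg.Lie.chevG2.group (ZMod 5)) →* G :=
    e.symm.toMonoidHom.comp (LyEmb.η.comp G14.equivChev.symm.toMonoidHom)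
  have hf : Function.Injective f :=
    e.symm.injective.comp (LyEmb.η_injective.comp G14.equivChev.symm.injective)
  have hn : Nontrivial ↥(Cfsg.Lie.chevG2.group (ZMod 5)) := by
    have hs : IsSimpleGroup ↥(Cfsg.Lie.chevG2.group (ZMod 5)) := by
      have := LyEmb.isSimpleGroup_H
      exact MulEquiv.isSimpleGroup (LyEmb.equivH.symm.trans G14.equivChev).symm
    infer_instance
  obtain ⟨x, hx⟩ := exists_ne (1 : ↥(Cfsg.Lie.chevG2.group (ZMod 5)))
  exact MinDeg.of_hom minDeg_h f ⟨x, fun h1 => hx (hf (by rw [h1, map_one]))⟩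

end Cfsg.Agent.H121.Cyc.SLy
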